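import Groth.Agent.PDLib.Fibre
import Groth.Agent.FibFreeExactLib.Local
import Groth.Agent.FlatLib.FibMaster
import Mathlib.RingTheory.Spectrum.Prime.FreeLocus

/-!
# The projective dimension of the fibres is upper semicontinuous
-/

set_option autoImplicit false

universe u

open CategoryTheory TensorProduct

namespace FibPDLib

variable {A B : Type u} [CommRing A] [CommRing B] [Algebra A B]

variable (A) in
/-- The local ring of the fibre at a prime. -/
abbrev G (P : Ideal B) [P.IsPrime] : Type u :=
  Localization.AtPrime P ⧸ (P.under A).map (algebraMap A (Localization.AtPrime P))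

section

variable (P : Ideal B) [P.IsPrime] {X : Type u} [AddCommGroup X] [Module B X]

theorem map_eq : ((P.under A).map (algebraMap A B)).map (algebraMap B (Localization.AtPrime P)) =
    (P.under A).map (algebraMap A (Localization.AtPrime P)) := by
  rw [Ideal.map_map, ← IsScalarTower.algebraMap_eq]

/-- Clearing denominators. -/
theorem exists_smul_eq_one_tmul (z : G A P ⊗[B] X) : ∃ s ∉ P, ∃ y : X, s • z = (1 : G A P) ⊗ₜ[B] y := by
  induction z using TensorProduct.induction_on with
  | zero => exact ⟨1, P.primeCompl.one_mem, 0, by simp⟩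
  | add z w hz hw =>
    obtain ⟨s, hs, y, hy⟩ := hz
    obtain ⟨t, ht, y', hy'⟩ := hw
    refine ⟨s * t, P.primeCompl.mul_mem hs ht, t • y + s • y', ?_⟩
    rw [smul_add, TensorProduct.tmul_add, TensorProduct.tmul_smul, TensorProduct.tmul_smul, ← hy, ← hy', smul_smul,
      smul_smul, mul_comm t s]
  | tmul c x =>
    obtain ⟨c, rfl⟩ := Ideal.Quotient.mk_surjective c
    obtain ⟨b, ⟨s, hs⟩, rfl⟩ := IsLocalization.exists_mk'_eq P.primeCompl c
    refine ⟨s, hs, b • x, ?_⟩
    have h1 : s • IsLocalization.mk' (Localization.AtPrime P) b (⟨s, hs⟩ : P.primeCompl) =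
        algebraMap B (Localization.AtPrime P) b := by
      rw [Algebra.smul_def]; exact IsLocalization.mk'_spec' _ b (⟨s, hs⟩ : P.primeCompl)
    rw [TensorProduct.smul_tmul', ← TensorProduct.smul_tmul]
    congr 1
    rw [show s • Ideal.Quotient.mk _ (IsLocalization.mk' (Localization.AtPrime P) b (⟨s, hs⟩ : P.primeCompl)) =
      Ideal.Quotient.mk _ (s • IsLocalization.mk' (Localization.AtPrime P) b (⟨s, hs⟩ : P.primeCompl)) from rfl, h1,
      ← Algebra.algebraMap_eq_smul_one]
    rfl

/-- When an element dies on the fibre. -/
theorem one_tmul_eq_zero_iff (y : X) : (1 : G A P) ⊗ₜ[B] y = 0 ↔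
    ∃ s ∉ P, s • y ∈ (P.under A).map (algebraMap A B) • (⊤ : Submodule B X) := by
  let J := (P.under A).map (algebraMap A B)
  let BP := Localization.AtPrime P
  constructor
  · intro h
    let J' : Submodule B BP := ((P.under A).map (algebraMap A BP)).restrictScalars B
    let q : BP →ₗ[B] G A P := (Ideal.Quotient.mkₐ B _).toLinearMap
    have hex : Function.Exact J'.subtype q := fun b => by
      rw [Submodule.coe_subtype, Subtype.range_coe]
      exact Ideal.Quotient.eq_zero_iff_mem
    obtain ⟨z, hz⟩ := (rTensor_exact X hex Ideal.Quotient.mk_surjective ((1 : BP) ⊗ₜ[B] y)).1 h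
    have key : ∀ z : J' ⊗[B] X, ∃ s ∉ P, ∃ w ∈ J • (⊤ : Submodule B X),
        s • J'.subtype.rTensor X z = (1 : BP) ⊗ₜ[B] w := by
      intro z
      induction z using TensorProduct.induction_on with
      | zero => exact ⟨1, P.primeCompl.one_mem, 0, Submodule.zero_mem _, by simp⟩
      | add z w hz hw =>
        obtain ⟨s, hs, a, ha, hy⟩ := hz
        obtain ⟨t, ht, a', ha', hy'⟩ := hw
        refine ⟨s * t, P.primeCompl.mul_mem hs ht, t • a + s • a',
          Submodule.add_mem _ (Submodule.smul_mem _ _ ha) (Submodule.smul_mem _ _ ha'), ?_⟩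
        rw [map_add, smul_add, TensorProduct.tmul_add, TensorProduct.tmul_smul, TensorProduct.tmul_smul, ← hy, ← hy',
          smul_smul, smul_smul, mul_comm t s]
      | tmul v x =>
        have hv : (v : BP) ∈ J.map (algebraMap B BP) := by rw [map_eq]; exact v.2
        obtain ⟨⟨j, s⟩, hjs⟩ := (IsLocalization.mem_map_algebraMap_iff P.primeCompl BP).1 hv
        refine ⟨s, s.2, (j : B) • x, Submodule.smul_mem_smul j.2 Submodule.mem_top, ?_⟩
        rw [LinearMap.rTensor_tmul, TensorProduct.smul_tmul', ← TensorProduct.smul_tmul]
        congr 1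
        rw [Algebra.smul_def, mul_comm, ← Algebra.algebraMap_eq_smul_one]
        exact hjs
    obtain ⟨s, hs, w, hw, hsw⟩ := key z
    rw [hz, ← TensorProduct.tmul_smul] at hsw
    obtain ⟨t, ht⟩ := (IsLocalizedModule.eq_iff_exists P.primeCompl (TensorProduct.mk B BP X 1)).1 hsw
    refine ⟨t * s, P.primeCompl.mul_mem t.2 hs, ?_⟩
    rw [← smul_smul, show (t : B) • s • y = (t : B) • w from ht]
    exact Submodule.smul_mem _ _ hw
  · rintro ⟨s, hs, hsy⟩
    have h0 : ∀ w ∈ J • (⊤ : Submodule B X), (1 : G A P) ⊗ₜ[B] w = 0 := by
      intro w hw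
      refine Submodule.smul_induction_on hw (fun j hj x _ => ?_) fun a b ha hb => by
        rw [TensorProduct.tmul_add, ha, hb, add_zero]
      rw [← TensorProduct.smul_tmul, ← Algebra.algebraMap_eq_smul_one]
      have : algebraMap B (G A P) j = 0 := Ideal.Quotient.eq_zero_iff_mem.2
        (by rw [← map_eq]; exact Ideal.mem_map_of_mem _ hj)
      rw [this, TensorProduct.zero_tmul]
    have h1 := h0 _ hsy
    rw [TensorProduct.tmul_smul] at h1
    have hu : IsUnit (algebraMap B (G A P) s) := by
      rw [IsScalarTower.algebraMap_apply B (Localization.AtPrime P) (G A P)]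
      exact (IsLocalization.map_units (Localization.AtPrime P) (⟨s, hs⟩ : P.primeCompl)).map _
    rwa [← algebraMap_smul (G A P) s, hu.smul_eq_zero] at h1

theorem baseChange_injective_of {X Y : Type u} [AddCommGroup X] [Module B X] [AddCommGroup Y] [Module B Y]
    (f : X →ₗ[B] Y) (h : ∀ y, f y ∈ (P.under A).map (algebraMap A B) • (⊤ : Submodule B Y) →
      y ∈ (P.under A).map (algebraMap A B) • (⊤ : Submodule B X)) :
    Function.Injective (f.baseChange (G A P)) := by
  refine (injective_iff_map_eq_zero _).2 fun z hz => ?_
  obtain ⟨s, hs, y, hy⟩ := exists_smul_eq_one_tmul P z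
  have hu : IsUnit (algebraMap B (G A P) s) := by
    rw [IsScalarTower.algebraMap_apply B (Localization.AtPrime P) (G A P)]
    exact (IsLocalization.map_units (Localization.AtPrime P) (⟨s, hs⟩ : P.primeCompl)).map _
  have h1 : (1 : G A P) ⊗ₜ[B] f y = 0 := by
    rw [← LinearMap.baseChange_tmul, ← hy, LinearMap.map_smul_of_tower, hz, smul_zero]
  obtain ⟨t, ht, hty⟩ := (one_tmul_eq_zero_iff P _).1 h1
  rw [← map_smul] at hty
  have h2 := (one_tmul_eq_zero_iff (A := A) P y).2 ⟨t, ht, h _ hty⟩
  rw [← hy, ← algebraMap_smul (G A P) s, hu.smul_eq_zero] at h2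
  exact h2

theorem subsingleton_iff [Module.Finite B X] :
    Subsingleton (G A P ⊗[B] X) ↔ (⟨P, inferInstance⟩ : PrimeSpectrum B) ∉ Module.support B X := by
  constructor
  · intro hsub hmem
    rw [Module.mem_support_iff_nontrivial_residueField_tensorProduct] at hmem
    refine not_subsingleton_iff_nontrivial.2 hmem (subsingleton_of_forall_eq 0 fun z => ?_)
    have h1 : ∀ y : X, (1 : P.ResidueField) ⊗ₜ[B] y = 0 := fun y => by
      obtain ⟨s, hs, hsy⟩ := (one_tmul_eq_zero_iff (A := A) P y).1 (Subsingleton.elim _ _)
      have h0 : ∀ w ∈ ((P.under A).map (algebraMap A B)) • (⊤ : Submodule B X),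
          (1 : P.ResidueField) ⊗ₜ[B] w = 0 := by
        intro w hw
        refine Submodule.smul_induction_on hw (fun j hj x _ => ?_) fun a b ha hb => by
          rw [TensorProduct.tmul_add, ha, hb, add_zero]
        rw [← TensorProduct.smul_tmul, ← Algebra.algebraMap_eq_smul_one,
          Ideal.algebraMap_residueField_eq_zero.2 (Ideal.map_comap_le hj), TensorProduct.zero_tmul]
      have h2 := h0 _ hsy
      rw [TensorProduct.tmul_smul, ← algebraMap_smul P.ResidueField s] at h2
      exact (smul_eq_zero.1 h2).resolve_left fun h => hs (Ideal.algebraMap_residueField_eq_zero.1 h)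
    induction z using TensorProduct.induction_on with
    | zero => rfl
    | add a b ha hb => rw [ha, hb, add_zero]
    | tmul c x => rw [← mul_one c, ← smul_eq_mul, ← TensorProduct.smul_tmul', h1, smul_zero]
  · intro hP
    have h1 : ∀ y : X, (1 : G A P) ⊗ₜ[B] y = 0 := fun y => by
      obtain ⟨s, hs, hsy⟩ : ∃ s ∉ P, s • y = 0 := by
        have := Module.notMem_support_iff.1 hP
        simpa using LocalizedModule.subsingleton_iff.1 this y
      exact (one_tmul_eq_zero_iff P y).2 ⟨s, hs, hsy ▸ Submodule.zero_mem _⟩
    refine subsingleton_of_forall_eq 0 fun z => ?_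
    induction z using TensorProduct.induction_on with
    | zero => rfl
    | add a b ha hb => rw [ha, hb, add_zero]
    | tmul c x => rw [show c ⊗ₜ[B] x = c • ((1 : G A P) ⊗ₜ[B] x) by rw [TensorProduct.smul_tmul', smul_eq_mul, mul_one], h1,
        smul_zero]

end

/-- A short exact sequence with flat quotient stays injective on the fibres. -/
theorem mem_smul_of_flat {K F Q : Type u} [AddCommGroup K] [Module B K] [Module A K] [IsScalarTower A B K]
    [AddCommGroup F] [Module B F] [Module A F] [IsScalarTower A B F] [AddCommGroup Q] [Module B Q] [Module A Q]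
    [IsScalarTower A B Q] [Module.Flat A Q] (i : K →ₗ[B] F) (g : F →ₗ[B] Q) (hi : Function.Injective i)
    (hex : Function.Exact i g) (hg : Function.Surjective g) (p : Ideal A) (y : K)
    (hy : i y ∈ p.map (algebraMap A B) • (⊤ : Submodule B F)) :
    y ∈ p.map (algebraMap A B) • (⊤ : Submodule B K) := by
  have hinj : Function.Injective ((i.restrictScalars A).lTensor (A ⧸ p)) :=
    PDLib.lTensor_injective_of_flat (A ⧸ p) (i.restrictScalars A) (g.restrictScalars A) hi hex hg
  rw [← FibFreeExactLib.mem_smul_iff] at hy ⊢
  rw [← FibFreeExactLib.one_tmul_eq_zero_iff] at hy ⊢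
  exact hinj (by rw [LinearMap.lTensor_tmul, map_zero]; exact hy)

variable [Algebra.FinitePresentation A B] [Module.Flat A B]

theorem projective_iff (M : Type u) [AddCommGroup M] [Module B M] [Module A M] [IsScalarTower A B M]
    [Module.FinitePresentation B M] [Module.Flat A M] (P : PrimeSpectrum B) :
    Module.Projective (G A P.asIdeal) (G A P.asIdeal ⊗[B] M) ↔ P ∈ Module.freeLocus B M := by
  constructor
  · intro hproj
    rw [Module.mem_freeLocus]
    rcases subsingleton_or_nontrivial (LocalizedModule P.asIdeal.primeCompl M) with hs | hnt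
    · infer_instance
    have hq : P ∈ FlatLib.flatLocus A B M :=
      FlatLib.flat_localized P.asIdeal.primeCompl (LocalizedModule.mkLinearMap _ _)
    have hfib : FlatLib.FibFlat B B M ((P.asIdeal.under A).map (algebraMap A B)) P.asIdeal := by
      intro T _ _ htor N x hx
      let GP := G A P.asIdeal
      have hbc : Function.Injective (N.subtype.baseChange GP) := baseChange_injective_of P.asIdeal N.subtype
        fun y hy => by
          have hJT : ((P.asIdeal.under A).map (algebraMap A B)) • (⊤ : Submodule B T) = ⊥ := eq_bot_iff.2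
            (Submodule.smul_le.2 fun j hj t _ => @htor t ⟨j, hj⟩)
          rw [hJT, Submodule.mem_bot] at hy
          rw [show y = 0 from Subtype.ext hy]
          exact Submodule.zero_mem _
      have hl := Module.Flat.lTensor_preserves_injective_linearMap (M := GP ⊗[B] M) _ hbc
      let dN := AlgebraTensorModule.distribBaseChange B GP M N
      let dT := AlgebraTensorModule.distribBaseChange B GP M T
      have hd : ∀ z : M ⊗[B] N, (N.subtype.baseChange GP).lTensor _ (dN (1 ⊗ₜ z)) =
          dT (1 ⊗ₜ (N.subtype.lTensor M z)) := fun z => by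
        induction z using TensorProduct.induction_on with
        | zero => simp
        | add a b ha hb => simp only [TensorProduct.tmul_add, map_add, ha, hb]
        | tmul m n => simp [dN, dT]
      have h1 : (1 : GP) ⊗ₜ[B] x = 0 := dN.injective (hl (by rw [hd, hx, tmul_zero, map_zero, map_zero, map_zero]))
      obtain ⟨s, hs, hsx⟩ := (one_tmul_eq_zero_iff P.asIdeal x).1 h1
      have hJ : ((P.asIdeal.under A).map (algebraMap A B)) • (⊤ : Submodule B (M ⊗[B] N)) = ⊥ := by
        refine eq_bot_iff.2 (Submodule.smul_le.2 fun j hj z hz => ?_)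
        clear hz
        rw [Submodule.mem_bot]
        induction z using TensorProduct.induction_on with
        | zero => simp
        | add a b ha hb => rw [smul_add, ha, hb, add_zero]
        | tmul m n =>
          rw [smul_tmul', TensorProduct.smul_tmul, show j • n = 0 from Subtype.ext (@htor n.1 ⟨j, hj⟩), tmul_zero]
      rw [hJ, Submodule.mem_bot] at hsx
      exact ⟨s, hs, hsx⟩
    obtain ⟨U, -, hPU, hU⟩ := FlatLib.exists_open_of_fibFlat (R := A) (S := B) (S' := B) P hq hfib hnt
    have hflat : Module.Flat B (LocalizedModule P.asIdeal.primeCompl M) := (hU P hPU).1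
    have : Module.Flat (Localization.AtPrime P.asIdeal) (LocalizedModule P.asIdeal.primeCompl M) :=
      (Module.flat_iff_of_isLocalization (Localization.AtPrime P.asIdeal) P.asIdeal.primeCompl _).2 hflat
    exact Module.free_of_flat_of_isLocalRing
  · intro hP
    have := (Module.mem_freeLocus_iff_tensor P (Localization.AtPrime P.asIdeal)).1 hP
    exact Module.Projective.of_equiv
      (AlgebraTensorModule.cancelBaseChange B (Localization.AtPrime P.asIdeal) (G A P.asIdeal) (G A P.asIdeal) M)

theorem isOpen_hasPDLE : ∀ (n : ℕ) (M : Type u) [AddCommGroup M] [Module B M] [Module A M]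
    [IsScalarTower A B M] [Module.FinitePresentation B M] [Module.Flat A M],
    IsOpen {P : PrimeSpectrum B |
      HasProjectiveDimensionLE (ModuleCat.of (G A P.asIdeal) (G A P.asIdeal ⊗[B] M)) n} := by
  intro n
  induction n with
  | zero =>
    intro M _ _ _ _ _ _
    convert Module.isOpen_freeLocus (R := B) (M := M)
    ext P
    rw [Set.mem_ofPred_eq, ← projective_iff_hasProjectiveDimensionLE_zero, ← IsProjective.iff_projective,
      projective_iff (A := A) M P]
  | succ n ih =>
    intro M _ _ _ _ _ _
    obtain ⟨m, g, hg, _, _⟩ := PDLib.exists_step (A := A) (B := B) M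
    have hex := LinearMap.exact_subtype_ker_map g
    convert ih (LinearMap.ker g) using 1
    ext P
    exact PDLib.hasPDLE_succ_iff ((LinearMap.ker g).subtype.baseChange (G A P.asIdeal))
      (g.baseChange (G A P.asIdeal))
      (baseChange_injective_of P.asIdeal _ fun y hy =>
        mem_smul_of_flat (LinearMap.ker g).subtype g Subtype.val_injective hex hg _ y hy)
      (lTensor_exact _ hex hg) (LinearMap.lTensor_surjective _ hg) n

theorem main (M : Type u) [AddCommGroup M] [Module B M] [Module A M]
    [IsScalarTower A B M] [Module.FinitePresentation B M] [Module.Flat A M] :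
    UpperSemicontinuous fun P : PrimeSpectrum B =>
      projectiveDimension (ModuleCat.of (G A P.asIdeal) (G A P.asIdeal ⊗[B] M)) := by
  have hbot : IsOpen {P : PrimeSpectrum B |
      projectiveDimension (ModuleCat.of (G A P.asIdeal) (G A P.asIdeal ⊗[B] M)) = ⊥} := by
    convert (Module.isClosed_support (R := B) (M := M)).isOpen_compl
    ext P
    rw [Set.mem_ofPred_eq, projectiveDimension_eq_bot_iff, ModuleCat.isZero_iff_subsingleton, Set.mem_compl_iff]
    exact subsingleton_iff P.asIdeal
  rw [upperSemicontinuous_iff_isOpen_preimage]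
  intro y
  induction y with
  | bot => simp
  | coe y =>
    induction y with
    | top =>
      convert hbot.union (isOpen_iUnion fun n => isOpen_hasPDLE (A := A) n M)
      ext P
      rw [Set.mem_preimage, Set.mem_Iio, Set.mem_union, Set.mem_ofPred_eq, Set.mem_iUnion]
      simp only [Set.mem_ofPred_eq, ← projectiveDimension_le_iff]
      generalize projectiveDimension (ModuleCat.of (G A P.asIdeal) (G A P.asIdeal ⊗[B] M)) = v
      induction v with
      | bot => simp
      | coe v =>
        induction v with
        | top =>
          refine iff_of_false (lt_irrefl _) ?_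
          rintro (h | ⟨n, h⟩)
          · exact WithBot.coe_ne_bot h
          · exact ENat.natCast_ne_top n (top_le_iff.1 (WithBot.coe_le_coe.1 h))
        | coe v => exact iff_of_true (WithBot.coe_lt_coe.2 (ENat.natCast_lt_top v)) (Or.inr ⟨v, le_rfl⟩)
    | coe y =>
      rcases y with _ | y
      · convert hbot using 1
        ext P
        rw [Set.mem_preimage, Set.mem_Iio, Set.mem_ofPred_eq]
        generalize projectiveDimension (ModuleCat.of (G A P.asIdeal) (G A P.asIdeal ⊗[B] M)) = v
        induction v with
        | bot => simp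
        | coe v => simp
      · have h := isOpen_hasPDLE (A := A) (B := B) y M
        convert h using 1
        ext P
        rw [Set.mem_preimage, Set.mem_Iio, Set.mem_ofPred_eq, ← projectiveDimension_le_iff]
        generalize projectiveDimension (ModuleCat.of (G A P.asIdeal) (G A P.asIdeal ⊗[B] M)) = v
        induction v with
        | bot => simp
        | coe v =>
          induction v with
          | top =>
            refine iff_of_false (fun h => not_top_lt (WithBot.coe_lt_coe.1 h)) fun h => ?_
            exact ENat.natCast_ne_top y (top_le_iff.1 (WithBot.coe_le_coe.1 h))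
          | coe v =>
            norm_cast
            exact Nat.lt_succ_iff

end FibPDLib
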